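import Groth.Agent.H29Ci.Ext
import Mathlib

/-!
# Norms and Tate `Ĥ⁻¹` of Galois extensions of `C₁` fields
-/

set_option autoImplicit false

universe u v

namespace Groth.Agent.H18Tsen

/-- A norm from a finite extension of a `C₁` field is surjective. -/
theorem norm_surjective_of_isCr {M : Type u} [Field M] (L : Type v) [Field L] [Algebra M L]
    [FiniteDimensional M L] (hM : Curves.IsCr M 1) : Function.Surjective (Algebra.norm M : L → M) := by
  classical
  intro c
  set n := Module.finrank M L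
  have hn : 0 < n := Module.finrank_pos
  let b := Module.finBasis M L
  let A : Matrix (Fin n) (Fin n) (MvPolynomial (Fin (n + 1)) M) := Matrix.of fun p q =>
    ∑ i, MvPolynomial.C (Algebra.leftMulMatrix b (b i) p q) * MvPolynomial.X i.succ
  have hev : ∀ a : Fin (n + 1) → M,
      MvPolynomial.eval a A.det = Algebra.norm M (∑ i : Fin n, a i.succ • b i) := by
    intro a
    rw [Algebra.norm_eq_matrix_det b, RingHom.map_det]
    congr 1
    ext p q
    simp only [A, RingHom.mapMatrix_apply, Matrix.map_apply, Matrix.of_apply, map_sum, map_mul,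
      MvPolynomial.eval_C, MvPolynomial.eval_X, map_smul, Matrix.sum_apply, Matrix.smul_apply, smul_eq_mul]
    exact Finset.sum_congr rfl fun i _ => mul_comm _ _
  have hA : ∀ p q, (A p q).IsHomogeneous 1 := fun p q =>
    show MvPolynomial.IsHomogeneous
      (∑ i, MvPolynomial.C (Algebra.leftMulMatrix b (b i) p q) * MvPolynomial.X i.succ) 1 from
    MvPolynomial.IsHomogeneous.sum _ _ 1 fun i _ => MvPolynomial.isHomogeneous_C_mul_X _ _
  let f := A.det - MvPolynomial.C c * MvPolynomial.X 0 ^ n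
  have hf : f.IsHomogeneous n := by
    refine MvPolynomial.IsHomogeneous.sub ?_ ((MvPolynomial.isHomogeneous_X_pow 0 n).C_mul c)
    rw [Matrix.det_apply']
    refine MvPolynomial.IsHomogeneous.sum _ _ n fun σ _ => ?_
    have h1 := MvPolynomial.IsHomogeneous.prod (Finset.univ : Finset (Fin n)) (fun i => A (σ i) i)
      (fun _ => 1) (fun i _ => hA _ _)
    simp only [Finset.sum_const, Finset.card_univ, Fintype.card_fin, smul_eq_mul, mul_one] at h1
    rw [← map_intCast (MvPolynomial.C (σ := Fin (n + 1)) (R := M))]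
    exact h1.C_mul _
  obtain ⟨a, ha, h⟩ := hM (n + 1) n f hf hn (by simp)
  simp only [f, map_sub, map_mul, MvPolynomial.eval_C, map_pow, MvPolynomial.eval_X, hev, sub_eq_zero] at h
  set y := ∑ i : Fin n, a i.succ • b i
  by_cases h0 : a 0 = 0
  · exfalso
    rw [h0, zero_pow hn.ne', mul_zero, Algebra.norm_eq_zero_iff] at h
    refine ha (funext fun j => ?_)
    refine Fin.cases h0 (fun i => ?_) j
    exact Fintype.linearIndependent_iff.mp b.linearIndependent (fun i => a i.succ) h i
  · refine ⟨algebraMap M L (a 0)⁻¹ * y, ?_⟩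
    rw [map_mul, Algebra.norm_algebraMap, h, inv_pow, mul_comm c, inv_mul_cancel_left₀ (pow_ne_zero _ h0)]

variable {K L : Type u} [Field K] [Field L] [Algebra K L]

/-- action of an automorphism on units -/
abbrev act (g : L ≃ₐ[K] L) : Lˣ →* Lˣ := Units.map g.toRingEquiv.toRingHom.toMonoidHom

theorem coe_act (g : L ≃ₐ[K] L) (u : Lˣ) : ((act g u : Lˣ) : L) = g (u : L) := rfl

theorem act_mul (g h : L ≃ₐ[K] L) (u : Lˣ) : act (g * h) u = act g (act h u) := Units.ext rfl

theorem act_one (u : Lˣ) : act (1 : L ≃ₐ[K] L) u = u := Units.ext rfl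

/-- the subgroup generated by `w / h w` -/
def J (H : Subgroup (L ≃ₐ[K] L)) : Subgroup Lˣ :=
  Subgroup.closure {v | ∃ w : Lˣ, ∃ h ∈ H, v = w / act h w}

theorem div_act_mem_J {H : Subgroup (L ≃ₐ[K] L)} (w : Lˣ) {h : L ≃ₐ[K] L} (hh : h ∈ H) :
    w / act h w ∈ J H := Subgroup.subset_closure ⟨w, h, hh, rfl⟩

theorem J_mono {H H' : Subgroup (L ≃ₐ[K] L)} (h : H ≤ H') : J H ≤ J H' :=
  Subgroup.closure_mono fun _ ⟨w, g, hg, hv⟩ => ⟨w, g, h hg, hv⟩

variable [FiniteDimensional K L] [IsGalois K L]

/-- norm for a subgroup -/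
noncomputable def nm (H : Subgroup (L ≃ₐ[K] L)) : Lˣ →* Lˣ :=
  ∏ h ∈ (Set.toFinite (H : Set (L ≃ₐ[K] L))).toFinset, act h

theorem nm_apply (H : Subgroup (L ≃ₐ[K] L)) [Fintype H] (u : Lˣ) :
    nm H u = ∏ h : H, act (h : L ≃ₐ[K] L) u := by
  rw [nm, MonoidHom.finset_prod_apply]
  exact Finset.prod_subtype _ (fun x => by simp) fun h => act h u

theorem exists_nm_eq (hK : Curves.IsCi K 1) (H : Subgroup (L ≃ₐ[K] L)) (b : Lˣ)
    (hb : ∀ h ∈ H, act h b = b) : ∃ z, nm H z = b := by
  classical
  let M := IntermediateField.fixedField H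
  haveI : Fintype H := Fintype.ofFinite H
  have hM : Curves.IsCr M 1 := H29Ci.isCr_of_isCi (H29Ci.isCi_of_finite M hK)
  have hbM : (b : L) ∈ M := fun h => congrArg Units.val (hb h h.2)
  obtain ⟨z, hz⟩ := norm_surjective_of_isCr L hM ⟨(b : L), hbM⟩
  have hz0 : z ≠ 0 := fun h => b.ne_zero (by
    rw [h, Algebra.norm_zero] at hz
    exact (congrArg Subtype.val hz).symm)
  refine ⟨Units.mk0 z hz0, Units.ext ?_⟩
  have h1 := Algebra.norm_eq_prod_automorphisms (K := M) (L := L) z
  rw [hz] at h1
  rw [nm_apply, Units.coe_prod]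
  refine Eq.trans ?_ h1.symm
  let e : H ≃ (L ≃ₐ[M] L) :=
    (MulEquiv.subgroupCongr (IntermediateField.fixingSubgroup_fixedField H).symm).toEquiv.trans
      (IntermediateField.fixingSubgroupEquiv M).toEquiv
  exact Fintype.prod_equiv e _ _ fun h => rfl

theorem exists_eq_div_of_cocycle (H : Subgroup (L ≃ₐ[K] L)) (f : H → Lˣ)
    (hf : ∀ g h : H, f (g * h) = f g * act (g : L ≃ₐ[K] L) (f h)) :
    ∃ b : Lˣ, ∀ g : H, f g = b / act (g : L ≃ₐ[K] L) b := by
  classical
  haveI : Fintype H := Fintype.ofFinite H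
  have hli : LinearIndependent L (fun h : H => ((h : L ≃ₐ[K] L) : L → L)) := by
    have h1 := linearIndependent_monoidHom L L
    exact h1.comp (fun h : H => ((h : L ≃ₐ[K] L).toRingEquiv.toRingHom.toMonoidHom : L →* L))
      fun h h' hh => Subtype.ext (AlgEquiv.ext fun x => DFunLike.congr_fun hh x)
  obtain ⟨c, hc⟩ : ∃ c : L, ∑ h : H, (f h : L) * (h : L ≃ₐ[K] L) c ≠ 0 := by
    by_contra hne
    push Not at hne
    have h1 := Fintype.linearIndependent_iff.mp hli (fun h => (f h : L)) (funext fun x => by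
      simpa using hne x) 1
    exact (f 1).ne_zero h1
  refine ⟨Units.mk0 _ hc, fun g => ?_⟩
  rw [eq_div_iff_mul_eq']
  refine Units.ext ?_
  show (f g : L) * (g : L ≃ₐ[K] L) (∑ h : H, (f h : L) * (h : L ≃ₐ[K] L) c) = ∑ h : H, (f h : L) * _
  rw [map_sum, Finset.mul_sum]
  refine Fintype.sum_equiv (Equiv.mulLeft g) _ _ fun h => ?_
  have h2 := congrArg Units.val (hf g h)
  simp only [Units.val_mul, coe_act] at h2
  show _ = (f (g * h) : L) * _
  rw [map_mul, ← mul_assoc, h2]
  rfl

theorem mem_J_of_nm_eq_one_of_isPGroup (hK : Curves.IsCi K 1) {p : ℕ} [Fact p.Prime] :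
    ∀ (H : Subgroup (L ≃ₐ[K] L)), IsPGroup p H → ∀ u, nm H u = 1 → u ∈ J H := by
  classical
  intro H
  induction hcard : Nat.card H using Nat.strong_induction_on generalizing H with
  | _ d ih =>
    intro hH u hu
    haveI : Fintype H := Fintype.ofFinite H
    rw [nm_apply] at hu
    obtain ⟨m, hm⟩ := IsPGroup.iff_card.mp hH
    cases m with
    | zero =>
      rw [pow_zero] at hm
      haveI := (Nat.card_eq_one_iff_unique.mp hm).1
      rw [Fintype.prod_subsingleton _ (1 : H)] at hu
      rw [show u = 1 from (act_one u).symm.trans hu]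
      exact one_mem _
    | succ m =>
      have hp := (Fact.out : p.Prime)
      obtain ⟨N, hN⟩ := Sylow.exists_subgroup_card_pow_prime p
        (show p ^ m ∣ Nat.card H by rw [hm]; exact pow_dvd_pow p (Nat.le_succ m))
      have hidx : N.index = p := by
        have h1 := N.card_mul_index
        rw [hN, hm, pow_succ] at h1
        exact mul_left_cancel₀ (pow_ne_zero _ hp.ne_zero) h1
      haveI hNn : N.Normal := Subgroup.normal_of_index_eq_minFac_card (by
        rw [hidx, hm, Nat.pow_minFac (Nat.succ_ne_zero m), hp.minFac_eq])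
      obtain ⟨σ, hσ⟩ : ∃ σ : H, σ ∉ N := by
        by_contra h
        push Not at h
        rw [show N = ⊤ from eq_top_iff.mpr fun x _ => h x, Subgroup.index_top] at hidx
        exact hp.ne_one hidx.symm
      have hσp : σ ^ p ∈ N := hidx ▸ Subgroup.pow_index_mem N σ
      have hordσ : orderOf (σ : H ⧸ N) = p := by
        refine orderOf_eq_prime ?_ fun h => hσ ((QuotientGroup.eq_one_iff σ).mp h)
        rw [← QuotientGroup.mk_pow, QuotientGroup.eq_one_iff]
        exact hσp
      have hord : ∀ i : ℕ, σ ^ i ∈ N ↔ p ∣ i := by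
        intro i
        rw [← QuotientGroup.eq_one_iff, QuotientGroup.mk_pow, ← orderOf_dvd_iff_pow_eq_one, hordσ]
      haveI : Fintype N := Fintype.ofFinite N
      have hbij : Function.Bijective (fun x : Fin p × N => σ ^ (x.1 : ℕ) * (x.2 : H)) := by
        rw [Fintype.bijective_iff_injective_and_card]
        constructor
        · rintro ⟨i, n⟩ ⟨j, n'⟩ hij
          have hq : (σ : H ⧸ N) ^ (i : ℕ) = (σ : H ⧸ N) ^ (j : ℕ) := by
            have := congrArg (QuotientGroup.mk (s := N)) hij
            simpa [(QuotientGroup.eq_one_iff _).mpr n.2, (QuotientGroup.eq_one_iff _).mpr n'.2] using this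
          have hm' : (i : ℕ) ≡ (j : ℕ) [MOD p] := by
            have := pow_eq_pow_iff_modEq.mp hq
            rwa [hordσ] at this
          obtain rfl : i = j := Fin.ext (hm'.eq_of_lt_of_lt i.isLt j.isLt)
          obtain rfl : n = n' := Subtype.ext (mul_left_cancel hij)
          rfl
        · rw [Fintype.card_prod, Fintype.card_fin, ← Nat.card_eq_fintype_card, ← Nat.card_eq_fintype_card, hN,
            hm, pow_succ, mul_comm]
      let N' : Subgroup (L ≃ₐ[K] L) := N.map H.subtype
      let eN : N ≃* N' := N.equivMapOfInjective H.subtype H.subtype_injective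
      haveI : Fintype N' := Fintype.ofFinite N'
      have hN'H : N' ≤ H := Subgroup.map_subtype_le N
      have hnm' : ∀ x, nm N' x = ∏ n : N, act ((n : H) : L ≃ₐ[K] L) x := fun x => by
        rw [nm_apply]
        exact (Fintype.prod_equiv eN.toEquiv _ _ fun n => rfl).symm
      set a := nm N' u with ha
      have hconj : ∀ (g : H) (x : Lˣ), nm N' (act (g : L ≃ₐ[K] L) x) = act (g : L ≃ₐ[K] L) (nm N' x) := by
        intro g x
        rw [hnm', hnm', map_prod]
        refine Fintype.prod_equiv ((MulAut.conjNormal (H := N) g⁻¹).toEquiv) _ _ fun n => ?_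
        rw [← act_mul, ← act_mul, show (((MulAut.conjNormal (H := N) g⁻¹).toEquiv n : N) : H) = g⁻¹ * n * g by
          simp [MulAut.conjNormal_apply]]
        simp [mul_assoc]
      have hfix : ∀ n : N, act ((n : H) : L ≃ₐ[K] L) a = a := fun n => by
        rw [ha, hnm', map_prod]
        exact Fintype.prod_equiv (Equiv.mulLeft n) _ _ fun n' => (act_mul _ _ _).symm
      let S : ℕ → Lˣ := fun i => ∏ j ∈ Finset.range i, act ((σ ^ j : H) : L ≃ₐ[K] L) a
      have hSadd : ∀ i l, S (i + l) = S i * act ((σ ^ i : H) : L ≃ₐ[K] L) (S l) := fun i l => by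
        simp only [S, Finset.prod_range_add, map_prod, pow_add, Subgroup.coe_mul, act_mul]
      have hSp : S p = 1 := by
        rw [← hu, ← hbij.prod_comp (fun h : H => act (h : L ≃ₐ[K] L) u), Fintype.prod_prod_type]
        simp only [S, Finset.prod_range, ha, hnm', map_prod]
        refine Finset.prod_congr rfl fun i _ => Finset.prod_congr rfl fun n _ => ?_
        rw [Subgroup.coe_mul, act_mul]
      have hfixσ : ∀ i : ℕ, p ∣ i → ∀ x, (∀ n : N, act ((n : H) : L ≃ₐ[K] L) x = x) →
          act ((σ ^ i : H) : L ≃ₐ[K] L) x = x := fun i hi x hx => hx ⟨σ ^ i, (hord i).mpr hi⟩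
      have hSfix : ∀ (i : ℕ) (n : N), act ((n : H) : L ≃ₐ[K] L) (S i) = S i := fun i n => by
        simp only [S, map_prod]
        refine Finset.prod_congr rfl fun j _ => ?_
        have hc : (σ ^ j)⁻¹ * (n : H) * σ ^ j ∈ N := by
          simpa using hNn.conj_mem _ n.2 (σ ^ j)⁻¹
        have h3 := hfix ⟨_, hc⟩
        rw [← act_mul, ← Subgroup.coe_mul,
          show (n : H) * σ ^ j = σ ^ j * ((σ ^ j)⁻¹ * (n : H) * σ ^ j) by group, Subgroup.coe_mul, act_mul]
        exact congrArg _ h3
      have hSper : ∀ i, S (i + p) = S i := fun i => by rw [hSadd, hSp, map_one, mul_one]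
      have hSmod : ∀ i, S i = S (i % p) := fun i => (Function.Periodic.map_mod_nat hSper i).symm
      choose k hk using fun h : H => hbij.surjective h
      let f : H → Lˣ := fun h => S ((k h).1 : ℕ)
      obtain ⟨b, hb⟩ := exists_eq_div_of_cocycle H f (fun g h => by
        have h1 := hk g
        have h2 := hk h
        have h12 := hk (g * h)
        set i := (k g).1
        set j := (k h).1
        set l := (k (g * h)).1
        have hq : ∀ (x : Fin p) (n : N), ((σ ^ (x : ℕ) * (n : H) : H) : H ⧸ N) = (σ : H ⧸ N) ^ (x : ℕ) := fun x n => by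
          rw [QuotientGroup.mk_mul, (QuotientGroup.eq_one_iff _).mpr n.2, mul_one, QuotientGroup.mk_pow]
        have h3 : (σ : H ⧸ N) ^ (l : ℕ) = (σ : H ⧸ N) ^ ((i : ℕ) + j) := by
          rw [pow_add, ← hq l (k (g * h)).2, ← hq i (k g).2, ← hq j (k h).2, ← QuotientGroup.mk_mul]
          exact congrArg QuotientGroup.mk (h12.trans (congrArg₂ (· * ·) h1.symm h2.symm))
        have h5 := pow_eq_pow_iff_modEq.mp h3
        rw [hordσ] at h5
        show S l = S i * act (g : L ≃ₐ[K] L) (S j)
        rw [hSmod l, h5, ← hSmod, hSadd]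
        conv_rhs => rw [← h1, Subgroup.coe_mul, act_mul, hSfix])
      have hb' : ∀ n : N, act ((n : H) : L ≃ₐ[K] L) b = b := fun n => by
        have h1 := hb (n : H)
        have h2 : f (n : H) = 1 := by
          have h3 := hk (n : H)
          have h4 : σ ^ ((k (n : H)).1 : ℕ) ∈ N := by
            have h5 := congrArg (fun z => z * ((k (n : H)).2 : H)⁻¹) h3
            simp only [mul_inv_cancel_right] at h5
            rw [h5]
            exact mul_mem n.2 (inv_mem (k (n : H)).2.2)
          show S _ = 1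
          rw [hSmod, Nat.mod_eq_zero_of_dvd ((hord _).mp h4)]
          rfl
        rw [h2] at h1
        exact (div_eq_one.mp h1.symm).symm
      have hfσ : f σ = a := by
        have h3 := hk σ
        have h4 : ((k σ).1 : ℕ) ≡ 1 [MOD p] := by
          have h5 : (σ : H ⧸ N) ^ ((k σ).1 : ℕ) = (σ : H ⧸ N) ^ 1 := by
            rw [pow_one]
            conv_rhs => rw [← h3, QuotientGroup.mk_mul, (QuotientGroup.eq_one_iff _).mpr (k σ).2.2, mul_one,
              QuotientGroup.mk_pow]
          have h6 := pow_eq_pow_iff_modEq.mp h5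
          rwa [hordσ] at h6
        show S _ = a
        rw [hSmod, h4, ← hSmod]
        simp [S, act_one]
      obtain ⟨z, hz⟩ := exists_nm_eq hK N' b (by rintro _ ⟨n, hn, rfl⟩; exact hb' ⟨n, hn⟩)
      have hu' : nm N' (u / (z / act (σ : L ≃ₐ[K] L) z)) = 1 := by
        rw [map_div, map_div, hconj, hz, ← hb σ, hfσ, ← ha, div_self']
      have hlt : Nat.card N' < d := by
        rw [← hcard, ← Nat.card_congr eN.toEquiv, hN, hm]
        exact Nat.pow_lt_pow_right hp.one_lt (Nat.lt_succ_self m)
      have h1 := ih _ hlt N' rfl ((hH.to_subgroup N).of_equiv eN) _ hu'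
      have h2 := mul_mem (J_mono hN'H h1) (div_act_mem_J (H := H) z σ.2)
      rwa [div_mul_cancel] at h2

theorem mem_J_top_of_norm_eq_one (hK : Curves.IsCi K 1) (u : Lˣ)
    (hu : Algebra.norm K (u : L) = 1) : u ∈ J (⊤ : Subgroup (L ≃ₐ[K] L)) := by
  classical
  set T := J (⊤ : Subgroup (L ≃ₐ[K] L))
  have hprod : ∏ g : L ≃ₐ[K] L, act g u = 1 := Units.ext (by
    rw [Units.coe_prod, Units.val_one, ← map_one (algebraMap K L), ← hu]
    exact (Algebra.norm_eq_prod_automorphisms K (u : L)).symm)
  have key : ∀ p : ℕ, p.Prime → ∃ m : ℕ, ¬ p ∣ m ∧ u ^ m ∈ T := by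
    intro p hp
    haveI : Fact p.Prime := ⟨hp⟩
    obtain ⟨P⟩ := (inferInstance : Nonempty (Sylow p (L ≃ₐ[K] L)))
    let P' : Subgroup (L ≃ₐ[K] L) := P
    refine ⟨P'.index, P.not_dvd_index, ?_⟩
    haveI : Fintype P' := Fintype.ofFinite P'
    haveI : Fintype ((L ≃ₐ[K] L) ⧸ P') := Fintype.ofFinite _
    let v := ∏ q : (L ≃ₐ[K] L) ⧸ P', act q.out⁻¹ u
    have hv : v ∈ J P' := mem_J_of_nm_eq_one_of_isPGroup hK P' P.isPGroup' v (by
      rw [nm_apply, ← hprod]
      simp only [v, map_prod, ← act_mul]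
      rw [← Fintype.prod_prod_type']
      refine Fintype.prod_bijective (fun x : P' × ((L ≃ₐ[K] L) ⧸ P') => (x.1 : L ≃ₐ[K] L) * x.2.out⁻¹) ?_ _ _
        fun x => rfl
      rw [Fintype.bijective_iff_injective_and_card]
      constructor
      · rintro ⟨h, q⟩ ⟨h', q'⟩ hx
        have h1 : q = q' := by
          have h2 := congrArg (fun g : L ≃ₐ[K] L => (QuotientGroup.mk g⁻¹ : (L ≃ₐ[K] L) ⧸ P')) hx
          simpa [QuotientGroup.mk_mul_of_mem, inv_mem h.2, inv_mem h'.2] using h2
        subst h1
        exact Prod.ext (Subtype.ext (mul_right_cancel hx)) rfl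
      · rw [Fintype.card_prod, ← Nat.card_eq_fintype_card, ← Nat.card_eq_fintype_card,
          ← Nat.card_eq_fintype_card (α := L ≃ₐ[K] L), ← Subgroup.index_eq_card, Subgroup.card_mul_index])
    have hdiv : u ^ P'.index / v ∈ T := by
      rw [Subgroup.index_eq_card, Nat.card_eq_fintype_card, ← Finset.card_univ, ← Finset.prod_const,
        ← Finset.prod_div_distrib]
      exact prod_mem fun q _ => div_act_mem_J (H := ⊤) u (Subgroup.mem_top _)
    have h2 := mul_mem hdiv (J_mono (le_top : P' ≤ ⊤) hv)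
    rwa [div_mul_cancel] at h2
  rw [← QuotientGroup.eq_one_iff (N := T) u, ← orderOf_eq_one_iff]
  by_contra hne
  obtain ⟨m, hm, hmem⟩ := key _ (Nat.minFac_prime hne)
  refine hm ((Nat.minFac_dvd _).trans (orderOf_dvd_of_pow_eq_one ?_))
  rw [← QuotientGroup.mk_pow, QuotientGroup.eq_one_iff]
  exact hmem

end Groth.Agent.H18Tsen
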